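import Cfsg.Agent.Coprime.Basic
import Cfsg.Agent.Coprime.Derived
import Cfsg.Agent.Coprime.Hall
import Cfsg.Agent.Coprime.Generation
import Cfsg.Agent.Coprime.Tools
import Cfsg.Agent.Core.Hall

/-!
Groups in which the `π`-elements form a subgroup.
-/

set_option autoImplicit false

open Subgroup
open scoped Pointwise

namespace Cfsg.Agent.PiHom

variable {G : Type*} [Group G] {π : Set ℕ}

/-- An element whose order only involves primes of `π`. -/
def IsPi (π : Set ℕ) (x : G) : Prop := ∀ p : ℕ, p.Prime → p ∣ orderOf x → p ∈ π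

/-- The `π`-elements form a subgroup. -/
def Closed (π : Set ℕ) (G : Type*) [Group G] : Prop := ∃ K : Subgroup G, ∀ x : G, x ∈ K ↔ IsPi π x

/-- `π`-elements centralise the `π'`-subgroups which they normalise. -/
def Local (π : Set ℕ) (G : Type*) [Group G] : Prop :=
  ∀ H : Subgroup G, (∀ p : ℕ, p.Prime → p ∣ Nat.card H → p ∉ π) →
    ∀ x : G, IsPi π x → x ∈ normalizer (H : Set G) → x ∈ centralizer (H : Set G)

theorem IsPi.one : IsPi π (1 : G) := fun p hp h => by
  rw [orderOf_one] at h; exact absurd (Nat.dvd_one.mp h) hp.ne_one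

theorem IsPi.of_dvd {H : Type*} [Group H] {x : G} {y : H} (h : IsPi π x) (hd : orderOf y ∣ orderOf x) :
    IsPi π y := fun p hp hpy => h p hp (hpy.trans hd)

variable [Finite G]

/-- Lifting `π`-elements. -/
theorem exists_lift {H : Type*} [Group H] (f : G →* H) (g : G) (hg : IsPi π (f g)) :
    ∃ g' ∈ zpowers g, IsPi π g' ∧ f g' = f g := by
  obtain ⟨m, n, hmn, hm, hn⟩ := Coprime.exists_pi_split π (orderOf_pos g).ne'
  have hcop : n.Coprime m := Nat.coprime_of_dvd fun q hq h1 h2 => hn q hq h1 (hm q hq h2)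
  obtain ⟨k, hk0, hk1⟩ := Nat.chineseRemainder hcop 0 1
  have hm0 : (g ^ k) ^ m = 1 := by
    rw [← pow_mul]
    refine orderOf_dvd_iff_pow_eq_one.mp ?_
    rw [hmn, mul_comm k]
    exact mul_dvd_mul_left m (Nat.modEq_zero_iff_dvd.mp hk0)
  refine ⟨g ^ k, npow_mem_zpowers g k, fun p hp hd => hm p hp (hd.trans (orderOf_dvd_of_pow_eq_one hm0)), ?_⟩
  have hd : orderOf (f g) ∣ m := by
    have h1 : orderOf (f g) ∣ m * n := hmn ▸ orderOf_map_dvd f g
    exact (Nat.coprime_of_dvd fun q hq h1 h2 => hn q hq h2 (hg q hq h1)).dvd_of_dvd_mul_right h1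
  rw [map_pow]
  conv_rhs => rw [← pow_one (f g)]
  exact pow_eq_pow_iff_modEq.mpr (hk1.of_dvd hd)

omit [Finite G] in
theorem isPi_of_card {K : Subgroup G} [Finite K] (h : ∀ p : ℕ, p.Prime → p ∣ Nat.card K → p ∈ π) {x : G}
    (hx : x ∈ K) : IsPi π x := fun p hp hd => h p hp (hd.trans (by
  rw [← Subgroup.orderOf_mk x hx]; exact orderOf_dvd_natCard _))

theorem card_pi {K : Subgroup G} (h : ∀ x ∈ K, IsPi π x) : ∀ p : ℕ, p.Prime → p ∣ Nat.card K → p ∈ π := by
  intro p hp hd
  have : Fact p.Prime := ⟨hp⟩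
  obtain ⟨x, hx⟩ := exists_prime_orderOf_dvd_card' p hd
  exact h x x.2 p hp (by rw [Subgroup.orderOf_coe, hx])

theorem Local.of_injective {W : Type*} [Group W] (h : Local π G) (f : W →* G) (hf : Function.Injective f) :
    Local π W := by
  intro H hH x hx hxn
  have h1 := h (H.map f) (by rwa [Subgroup.card_map_of_injective hf]) (f x)
    (hx.of_dvd (by rw [orderOf_injective f hf])) (Subgroup.le_normalizer_map f ⟨x, hxn, rfl⟩)
  rw [mem_centralizer_iff] at h1 ⊢
  intro y hy
  exact hf (by simpa using h1 (f y) ⟨y, hy, rfl⟩)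

/-- A criterion for the hypothesis `Local`. -/
theorem Local.of_relIndex (h : ∀ H : Subgroup G, H ≠ ⊥ → (∀ p : ℕ, p.Prime → p ∣ Nat.card H → p ∉ π) →
    ∀ p : ℕ, p.Prime → p ∣ (centralizer (H : Set G)).relIndex (normalizer (H : Set G)) → p ∉ π) :
    Local π G := by
  intro H hH x hx hxn
  rcases eq_or_ne H ⊥ with rfl | hne
  · rw [mem_centralizer_iff]
    intro y hy
    rw [SetLike.mem_coe, mem_bot] at hy
    simp [hy]
  let φ := H.normalizerMonoidHom
  have hker : φ.ker = (centralizer (H : Set G)).subgroupOf (normalizer (H : Set G)) :=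
    Subgroup.normalizerMonoidHom_ker H
  have hdvd : orderOf (φ ⟨x, hxn⟩) ∣ (centralizer (H : Set G)).relIndex (normalizer (H : Set G)) := by
    rw [relIndex, ← hker, Subgroup.index_ker]
    rw [← Subgroup.orderOf_mk (φ ⟨x, hxn⟩) (show φ ⟨x, hxn⟩ ∈ φ.range from ⟨_, rfl⟩)]
    exact orderOf_dvd_natCard _
  have h1 : φ ⟨x, hxn⟩ = 1 := by
    rw [← orderOf_eq_one_iff]
    by_contra hne1
    obtain ⟨q, hq, hqd⟩ := Nat.exists_prime_and_dvd hne1
    exact h H hne hH q hq (hqd.trans hdvd) (hx q hq (hqd.trans ((orderOf_map_dvd φ _).trans (by rw [Subgroup.orderOf_mk]))))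
  rw [← MonoidHom.mem_ker, hker] at h1
  exact h1

/-- The extension theorem. -/
theorem closed_of_extension (hloc : Local π G) (K : Subgroup G) [K.Normal] (hK : Closed π K)
    (hQ : Closed π (G ⧸ K)) : Closed π G := by
  obtain ⟨L, hL⟩ := hK
  obtain ⟨LQ, hLQ⟩ := hQ
  set N := L.map K.subtype with hNdef
  have hmemN : ∀ x : G, x ∈ N ↔ x ∈ K ∧ IsPi π x := fun x => by
    constructor
    · rintro ⟨y, hy, rfl⟩
      exact ⟨y.2, ((hL y).mp hy).of_dvd (by rw [Subgroup.subtype_apply, Subgroup.orderOf_coe])⟩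
    · rintro ⟨hxK, hx⟩
      exact ⟨⟨x, hxK⟩, (hL _).mpr (hx.of_dvd (by rw [Subgroup.orderOf_mk])), rfl⟩
  have hNn : N.Normal := ⟨fun x hx g => by
    rw [hmemN] at hx ⊢
    exact ⟨(inferInstance : K.Normal).conj_mem x hx.1 g, hx.2.of_dvd (by
      rw [← MulAut.conj_apply, MulEquiv.orderOf_eq])⟩⟩
  let f := QuotientGroup.mk' N
  have hf : Function.Surjective f := QuotientGroup.mk'_surjective N
  have hfker : f.ker = N := QuotientGroup.ker_mk' N
  have hNpi := card_pi (K := N) (fun x hx => ((hmemN x).mp hx).2)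
  have hKpi' : ∀ q : ℕ, q.Prime → q ∣ Nat.card (K.map f) → q ∉ π := by
    intro q hq hd hqπ
    have : Fact q.Prime := ⟨hq⟩
    obtain ⟨⟨u, hu⟩, hko⟩ := exists_prime_orderOf_dvd_card' (G := K.map f) q hd
    rw [Subgroup.orderOf_mk] at hko
    obtain ⟨k, hk, rfl⟩ := hu
    obtain ⟨k', hk', hk'π, hfk⟩ := exists_lift f k (π := π) (fun p hp hpd => by
      rw [hko, Nat.prime_dvd_prime_iff_eq hp hq] at hpd; exact hpd ▸ hqπ)
    have : k' ∈ N := (hmemN k').mpr ⟨zpowers_le.mpr hk hk', hk'π⟩
    rw [← hfk, (QuotientGroup.eq_one_iff k').mpr this |> fun h => (show f k' = 1 from h), orderOf_one] at hko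
    exact hq.ne_one hko.symm
  -- `π`-elements of the quotient centralise the image of `K`
  have hcent : ∀ y : G ⧸ N, IsPi π y → y ∈ centralizer (K.map f : Set (G ⧸ N)) := by
    intro y hy
    set A := zpowers y
    have hKn : (K.map f).Normal := (inferInstance : K.Normal).map f hf
    have hAK : A ≤ normalizer (K.map f : Set (G ⧸ N)) := (normalizer_eq_top_iff.mpr hKn).symm ▸ le_top
    have hcop : (Nat.card A).Coprime (Nat.card (K.map f)) := Nat.coprime_of_dvd fun q hq h1 h2 =>
      hKpi' q hq h2 (hy q hq (by rwa [Nat.card_zpowers] at h1))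
    have hsolv : Group.IsSolvable A ∨ Group.IsSolvable (K.map f) :=
      Or.inl (Group.isSolvable_of_comm fun a b => mul_comm' a b)
    have hle : K.map f ≤ centralizer ({y} : Set (G ⧸ N)) := by
      refine Coprime.le_of_forall_sylow_le fun q hq => ?_
      have : Fact q.Prime := ⟨hq⟩
      obtain ⟨P, hP⟩ := Coprime.exists_invariant_sylow hAK hcop hsolv q
      refine ⟨P, ?_⟩
      set Q := (P : Subgroup (K.map f)).map (K.map f).subtype with hQdef
      have hQK : Q ≤ K.map f := map_subtype_le _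
      have hQpi' : ∀ p : ℕ, p.Prime → p ∣ Nat.card Q → p ∉ π := fun p hp hd =>
        hKpi' p hp (hd.trans (card_dvd_of_le hQK))
      -- a complement of `N` in the preimage of `Q`
      set W := Q.comap f with hW
      have hNW : N ≤ W := fun x hx => by
        show f x ∈ Q
        rw [show f x = 1 from (QuotientGroup.eq_one_iff x).mpr hx]; exact one_mem Q
      have hcardW : Nat.card W = Nat.card N * Nat.card Q := by
        rw [hW, Core.card_comap_mk]
      obtain ⟨T, hT⟩ := exists_right_complement'_of_coprime (N := N.subgroupOf W) (by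
        have h1 := (N.subgroupOf W).card_mul_index
        rw [Nat.card_congr (subgroupOfEquivOfLe hNW).toEquiv, hcardW] at h1
        rw [Nat.card_congr (subgroupOfEquivOfLe hNW).toEquiv, Nat.eq_of_mul_eq_mul_left Nat.card_pos h1]
        exact Nat.coprime_of_dvd fun p hp h1 h2 => hQpi' p hp h2 (hNpi p hp h1))
      set T' := T.map W.subtype with hT'
      have hT'c : Nat.card T' = Nat.card Q := by
        rw [hT', card_map_of_injective W.subtype_injective]
        have h1 := hT.card_mul
        rw [Nat.card_congr (subgroupOfEquivOfLe hNW).toEquiv, hcardW] at h1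
        exact Nat.eq_of_mul_eq_mul_left Nat.card_pos h1
      have hWsup : W ≤ N ⊔ T' := by
        intro w hw
        have h1 : (⟨w, hw⟩ : W) ∈ ((N.subgroupOf W ⊔ T : Subgroup W)) := by rw [hT.sup_eq_top]; trivial
        have h2 : w ∈ (N.subgroupOf W ⊔ T).map W.subtype := ⟨_, h1, rfl⟩
        rw [Subgroup.map_sup] at h2
        exact (sup_le_sup_right (show (N.subgroupOf W).map W.subtype ≤ N from map_le_iff_le_comap.mpr le_rfl) T') h2
      have hT'W : T' ≤ W := map_subtype_le T
      have hfT : Q = T'.map f := by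
        refine le_antisymm ?_ (map_le_iff_le_comap.mpr hT'W)
        rw [← map_comap_eq_self_of_surjective hf Q, ← hW]
        refine (map_mono hWsup).trans ?_
        rw [Subgroup.map_sup, (map_eq_bot_iff N).mpr hfker.ge, bot_sup_eq]
      have hTpi' : ∀ p : ℕ, p.Prime → p ∣ Nat.card T' → p ∉ π := by rwa [hT'c]
      obtain ⟨g, rfl⟩ := hf y
      -- move `g` into the normaliser of `T'`
      have hWg : ∀ w ∈ W, g * w * g⁻¹ ∈ W := fun w hw => by
        show f (g * w * g⁻¹) ∈ Q
        rw [map_mul, map_mul, map_inv]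
        exact (mem_normalizer_iff.mp (hP (mem_zpowers _)) _).mp hw
      obtain ⟨l, hl, hlT⟩ := Coprime.exists_conj_eq (A := T') (K := N) (B := MulAut.conj g • T')
        ((normalizer_eq_top_iff.mpr hNn).symm ▸ le_top)
        (Nat.coprime_of_dvd fun p hp h1 h2 => hTpi' p hp h1 (hNpi p hp h2))
        (Or.inl (by
          have hq : IsPGroup q T' := by
            obtain ⟨j, hj⟩ := (P.2.map (K.map f).subtype).exists_card_eq
            exact IsPGroup.of_card (hT'c.trans hj)
          have := hq.isNilpotent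
          infer_instance))
        (by
          intro z hz
          have hw := Coprime.mem_conj_smul.mp hz
          rw [show z = g * (g⁻¹ * z * g) * g⁻¹ by group]
          exact hWsup (hWg _ (hT'W hw)))
        (Nat.card_congr (Subgroup.equivSMul (MulAut.conj g) T').toEquiv.symm)
      rw [smul_smul, ← map_mul] at hlT
      have hn : l * g ∈ normalizer (T' : Set G) := by
        rw [mem_normalizer_iff_map_conj_eq]
        conv_rhs => rw [← hlT]
        rfl
      have hfn : f (l * g) = f g := by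
        rw [map_mul, show f l = 1 from (QuotientGroup.eq_one_iff l).mpr hl, one_mul]
      obtain ⟨n, hnz, hnπ, hfn'⟩ := exists_lift f (l * g) (π := π) (by rw [hfn]; exact hy)
      have hc := hloc T' hTpi' n hnπ (zpowers_le.mpr hn hnz)
      rw [hfT]
      rintro _ ⟨t, ht, rfl⟩
      rw [mem_centralizer_singleton_iff, ← hfn, ← hfn', ← map_mul, ← map_mul, mem_centralizer_iff.mp hc t ht]
    rw [mem_centralizer_iff]
    intro k hk
    exact mem_centralizer_singleton_iff.mp (hle hk)
  -- the complement of the image of `K`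
  set M := LQ.comap (QuotientGroup.mk' K) with hM
  have hπM : ∀ x : G, IsPi π x → x ∈ M := fun x hx => (hLQ _).mpr (hx.of_dvd (orderOf_map_dvd _ x))
  have hKM : K ≤ M := fun x hx => by
    show QuotientGroup.mk' K x ∈ LQ
    rw [show QuotientGroup.mk' K x = 1 from (QuotientGroup.eq_one_iff x).mpr hx]; exact one_mem LQ
  set Kf := (K.map f).subgroupOf (M.map f) with hKf
  have hKfn : Kf.Normal := ((inferInstance : K.Normal).map f hf).subgroupOf _
  have hidx : ∀ p : ℕ, p.Prime → p ∣ Kf.index → p ∈ π := by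
    intro p hp hd
    rw [hKf, ← relIndex, relIndex_map_map, hfker, sup_eq_left.mpr (fun x hx => ((hmemN x).mp hx).1),
      sup_eq_left.mpr (fun x hx => hKM ((hmemN x).mp hx).1)] at hd
    have h1 : K.relIndex M * Nat.card K = Nat.card K * Nat.card LQ := by
      rw [mul_comm, Coprime.card_mul_relIndex_of_le hKM, hM, Core.card_comap_mk]
    rw [mul_comm, Nat.mul_right_inj Nat.card_pos.ne'] at h1
    exact card_pi (fun x hx => (hLQ x).mp hx) p hp (h1 ▸ hd)
  have hKfc : Nat.card Kf = Nat.card (K.map f) := Nat.card_congr (subgroupOfEquivOfLe (map_mono hKM)).toEquiv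
  obtain ⟨X, hX⟩ := exists_right_complement'_of_coprime (N := Kf)
    (Nat.coprime_of_dvd fun p hp h1 h2 => hKpi' p hp (hKfc ▸ h1) (hidx p hp h2))
  set X' := X.map (M.map f).subtype
  have hXpi : ∀ p : ℕ, p.Prime → p ∣ Nat.card X' → p ∈ π := fun p hp hd => by
    rw [card_map_of_injective (M.map f).subtype_injective] at hd
    exact hidx p hp (hX.symm.index_eq_card ▸ hd)
  refine ⟨X'.comap f, fun x => ⟨fun hx p hp hd => ?_, fun hx => ?_⟩⟩
  · have h1 : orderOf x ∣ Nat.card (X'.comap f) := by
      rw [← Subgroup.orderOf_mk x hx]; exact orderOf_dvd_natCard _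
    have h2 : Nat.card (X'.comap f) = Nat.card N * Nat.card X' := by
      rw [Core.card_comap_mk]
    rcases hp.dvd_mul.mp (h2 ▸ hd.trans h1) with h | h
    · exact hNpi p hp h
    · exact hXpi p hp h
  · show f x ∈ X'
    have hxm : (⟨f x, mem_map_of_mem f (hπM x hx)⟩ : M.map f) ∈ ((Kf ⊔ X : Subgroup _) : Set _) := by
      rw [hX.sup_eq_top]; trivial
    rw [normal_mul] at hxm
    obtain ⟨k, hk, e, he, hke⟩ := hxm
    have hk' : (k : G ⧸ N) ∈ K.map f := mem_subgroupOf.mp hk
    have he' : (e : G ⧸ N) ∈ X' := mem_map_of_mem _ he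
    have hke' : (k : G ⧸ N) * e = f x := congrArg Subtype.val hke
    have hcomm : Commute (k : G ⧸ N) e :=
      mem_centralizer_iff.mp (hcent e (isPi_of_card hXpi he')) k hk'
    have hkpi : IsPi π (k : G ⧸ N) := by
      have h1 : (k : G ⧸ N) ^ (orderOf (f x) * Nat.card X') = 1 := by
        have h := congrArg (· ^ (orderOf (f x) * Nat.card X')) hke'
        rw [hcomm.mul_pow, pow_mul (f x), pow_orderOf_eq_one, one_pow, mul_comm (orderOf (f x)), pow_mul (e : G ⧸ N),
          show (e : G ⧸ N) ^ Nat.card X' = 1 from orderOf_dvd_iff_pow_eq_one.mp (by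
            rw [← Subgroup.orderOf_mk _ he']; exact orderOf_dvd_natCard _), one_pow, mul_one, mul_comm] at h
        exact h
      intro p hp hd
      rcases hp.dvd_mul.mp (hd.trans (orderOf_dvd_of_pow_eq_one h1)) with h | h
      · exact hx p hp (h.trans (orderOf_map_dvd f x))
      · exact hXpi p hp h
    have hk1 : (k : G ⧸ N) = 1 := by
      rw [← orderOf_eq_one_iff]
      by_contra hne
      obtain ⟨q, hq, hqd⟩ := Nat.exists_prime_and_dvd hne
      exact hKpi' q hq (hqd.trans (by rw [← Subgroup.orderOf_mk _ hk']; exact orderOf_dvd_natCard _)) (hkpi q hq hqd)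
    rw [← hke', hk1, one_mul]
    exact he'

end Cfsg.Agent.PiHom
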